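import Groth.Agent.AdjLin.K369.CutCoord
import Groth.Agent.AdjLin.K633.Plan
import Groth.Agent.CycA.StalkIdeal
import Groth.Agent.Divis.EffIntegral
import Groth.Agent.Vanish.K911.Ncd

/-!
# NLoc: comparison of orders along an intersection of two members of a normal crossing family

* `stalkIdeal_ptI`: the stalk at `x` of the ideal of the closure of `x` is the maximal ideal;
* `support_ptI`, `comap_ptI_le`: if `w ⤳ c i` then `I_w · O_Y ⊆ E_i`;
* `nloc : NLoc p`.
-/

set_option autoImplicit false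
universe u

open CategoryTheory CategoryTheory.Limits AlgebraicGeometry TopologicalSpace

namespace K369.Loc

open K633.Fuj K369.CutRing K369.CutCoord Groth.Agent
open Groth.Agent.Divis.CartierBasic Groth.Agent.Divis.CartierStalk

theorem stalkIdeal_prod' {X : Scheme.{u}} {ι : Type*} (s : Finset ι) (D : ι → X.IdealSheafData) (x : X) :
    stalkIdeal (∏ i ∈ s, D i) x = ∏ i ∈ s, stalkIdeal (D i) x := by
  classical
  induction s using Finset.induction_on with
  | empty =>
    rw [Finset.prod_empty, Finset.prod_empty, Ideal.one_eq_top]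
    exact stalkIdeal_top x
  | insert i s hi ih => rw [Finset.prod_insert hi, Finset.prod_insert hi, stalkIdeal_mul, ih]

theorem stalkIdeal_mon {X : Scheme.{u}} {r : ℕ} (E : Fin r → X.IdealSheafData) (e : Fin r → ℕ) {x : X}
    {g : Fin r → X.presheaf.stalk x} (hg : ∀ l, stalkIdeal (E l) x = Ideal.span {g l}) :
    stalkIdeal (∏ i, E i ^ e i) x = Ideal.span {∏ i, g i ^ e i} := by
  rw [stalkIdeal_prod', ← Ideal.prod_span_singleton]
  refine Finset.prod_congr rfl fun i _ => ?_
  rw [stalkIdeal_pow, hg, Ideal.span_singleton_pow]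


theorem mem_support_ptI {X : Scheme.{u}} (ξ x : X) : x ∈ (ptI ξ).support ↔ ξ ⤳ x :=
  CycA.StalkIdeal.mem_support_ptIdeal_iff ξ x

/-- The stalk at `x` of the ideal of the closure of `x` is the maximal ideal. -/
theorem stalkIdeal_ptI {X : Scheme.{u}} (x : X) :
    stalkIdeal (ptI x) x = IsLocalRing.maximalIdeal (X.presheaf.stalk x) := by
  have h1 := CycA.StalkIdeal.stalkIdeal_ptIdeal (specializes_refl x)
  refine Eq.trans (show stalkIdeal (ptI x) x = _ from h1) ?_
  ext a
  rw [CycB.LocQuot.mem_ker_specMap_iff, IsLocalRing.mem_maximalIdeal, mem_nonunits_iff]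
  rw [X.presheaf.stalkSpecializes_refl]
  rfl

variable {k : Type u} [Field k] {X : Scheme.{u}} {p : X ⟶ Spec (CommRingCat.of k)} (M : Model p)

theorem gp_specializes (i : Fin M.r) {y : M.Y} (hy : y ∈ (M.E i).support) : M.gp i ⤳ y := by
  obtain ⟨d, rfl⟩ := exists_subscheme_apply_eq (M.E i) hy
  exact (genericPoint_specializes d).map (M.E i).subschemeι.continuous

theorem gp_mem_support (i : Fin M.r) : M.gp i ∈ (M.E i).support := subschemeι_mem_support _ _

theorem mem_support_iff_gp (i : Fin M.r) {y : M.Y} : y ∈ (M.E i).support ↔ M.gp i ⤳ y :=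
  ⟨gp_specializes M i, fun h => h.mem_closed (M.E i).support.isClosed (gp_mem_support M i)⟩

/-- `I_w · O_Y ⊆ E_i` if the centre of `E_i` lies in the closure of `w`. -/
theorem comap_ptI_le {w : X} (i : Fin M.r) (h : w ⤳ M.c i) : (ptI w).comap M.μ ≤ M.E i := by
  have h1 : (M.E i).support ≤ ((ptI w).comap M.μ).support := by
    intro y hy
    rw [K911.Ncd.mem_support_comap, mem_support_ptI]
    exact h.trans ((gp_specializes M i hy).map M.μ.continuous)
  rw [← Groth.Agent.Divis.EffIntegral.radical_eq_self (M.E i), ← Scheme.IdealSheafData.vanishingIdeal_support]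
  exact Scheme.IdealSheafData.le_support_iff_le_vanishingIdeal.1 h1

/-- **NLoc** -/
theorem nloc : NLoc p := by
  classical
  intro M x w hx b hb hm i j hwi hmi hbi hex N hle
  obtain ⟨y, hyi, hyj, hyx⟩ := hex
  subst hyx
  by_cases hij : i = j
  · subst hij
    rw [hmi, mul_zero]
    exact Nat.zero_le _
  have hsm := M.smooth
  obtain ⟨g, hg, hun, hmax, h2, h3⟩ := exists_gens M.snc y
  have e1 : stalkIdeal (b.comap M.μ) y = Ideal.span {∏ l, g l ^ M.o b l} := by
    rw [hb]
    exact stalkIdeal_mon M.E _ hg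
  have e2 : stalkIdeal ((ptI (M.μ y)).comap M.μ) y = Ideal.span {∏ l, g l ^ M.o (ptI (M.μ y)) l} := by
    rw [hm]
    exact stalkIdeal_mon M.E _ hg
  have e3 : stalkIdeal ((ptI w).comap M.μ) y ≤ Ideal.span {g i} := by
    rw [← hg i]
    exact stalkIdeal_mono (comap_ptI_le M i hwi) y
  have e4 : stalkIdeal (b.comap M.μ) y ≤
      stalkIdeal ((ptI w).comap M.μ) y ⊔ stalkIdeal ((ptI (M.μ y)).comap M.μ) y ^ N := by
    rw [stalkIdeal_comap, stalkIdeal_comap, stalkIdeal_comap, stalkIdeal_ptI, ← Ideal.map_pow, ← Ideal.map_sup]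
    exact Ideal.map_mono hle
  have e5 : ∏ l, g l ^ M.o b l ∈ Ideal.span {g i} ⊔ Ideal.span {(∏ l, g l ^ M.o (ptI (M.μ y)) l) ^ N} := by
    have h : ∏ l, g l ^ M.o b l ∈ stalkIdeal (b.comap M.μ) y := by
      rw [e1]
      exact Ideal.mem_span_singleton_self _
    have h' := e4 h
    rw [e2, Ideal.span_singleton_pow] at h'
    exact sup_le_sup_right e3 _ h'
  have e6 : ∏ l, g l ^ M.o b l = (∏ l ∈ (Finset.univ.erase j), g l ^ M.o b l) * g j ^ M.o b j := by
    rw [mul_comm, Finset.mul_prod_erase _ (fun l => g l ^ M.o b l) (Finset.mem_univ j)]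
  have e7 : (∏ l, g l ^ M.o (ptI (M.μ y)) l) ^ N = g j ^ (N * M.o (ptI (M.μ y)) j) *
      (∏ l ∈ (Finset.univ.erase j), g l ^ M.o (ptI (M.μ y)) l) ^ N := by
    rw [← Finset.mul_prod_erase _ (fun l => g l ^ M.o (ptI (M.μ y)) l) (Finset.mem_univ j), mul_pow, ← pow_mul,
      mul_comm N]
  rw [e6, e7] at e5
  refine le_of_mem (hmax i hyi) (hmax j hyj) (h2 i j hij hyi hyj) ?_ e5
  refine Reg3.prod _ _ fun l hl => ?_
  by_cases hil : i = l
  · subst hil
    rw [hbi, pow_zero]
    exact Reg3.one _ _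
  · exact (h3 i j l hij hil (Finset.ne_of_mem_erase hl).symm hyi hyj).pow _

end K369.Loc
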