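import Mathlib.RingTheory.Regular.Flat
import Mathlib.RingTheory.LocalRing.MaximalIdeal.Basic
import Mathlib.RingTheory.Localization.AtPrime.Basic
import Mathlib.Tactic

/-!
# Local algebra of a cut

`Reg3 a b c`: `c` is a nonzerodivisor modulo `(a, b)`; `Reg2 a b`: `b` is a nonzerodivisor modulo `a`.

`le_of_mem`: in a local ring with `a`, `b` in the maximal ideal, `Reg2 a b`, `Reg3 a b c`: `c b^B ∈ (a) + (b^N c')` implies
`N ≤ B`.
-/

set_option autoImplicit false

namespace K369.CutRing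

variable {R : Type*} [CommRing R]

/-- `b` is a nonzerodivisor modulo `a`. -/
def Reg2 (a b : R) : Prop := ∀ x, a ∣ b * x → a ∣ x

/-- `c` is a nonzerodivisor modulo `(a, b)`. -/
def Reg3 (a b c : R) : Prop := ∀ x u w, c * x = a * u + b * w → ∃ u' w', x = a * u' + b * w'

theorem Reg2.pow {a b : R} (h : Reg2 a b) (n : ℕ) {x : R} (hx : a ∣ b ^ n * x) : a ∣ x := by
  induction n with
  | zero => simpa using hx
  | succ n ih =>
    refine ih (h _ ?_)
    rwa [← mul_assoc, ← pow_succ']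

theorem Reg3.of_isUnit (a b : R) {c : R} (hc : IsUnit c) : Reg3 a b c := by
  intro x u w h
  obtain ⟨v, rfl⟩ := hc
  refine ⟨↑v⁻¹ * u, ↑v⁻¹ * w, ?_⟩
  have h1 : x = ↑v⁻¹ * (↑v * x) := by rw [← mul_assoc, Units.inv_mul, one_mul]
  rw [h1, h]
  ring

theorem Reg3.mul {a b c d : R} (hc : Reg3 a b c) (hd : Reg3 a b d) : Reg3 a b (c * d) := by
  intro x u w h
  obtain ⟨u', w', h'⟩ := hc (d * x) u w (by rw [← mul_assoc, h])
  exact hd x u' w' h'

theorem Reg3.one (a b : R) : Reg3 a b 1 := Reg3.of_isUnit a b isUnit_one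

theorem Reg3.pow {a b c : R} (hc : Reg3 a b c) (n : ℕ) : Reg3 a b (c ^ n) := by
  induction n with
  | zero => rw [pow_zero]; exact Reg3.one a b
  | succ n ih => rw [pow_succ]; exact ih.mul hc

theorem Reg3.prod {a b : R} {ι : Type*} (s : Finset ι) (c : ι → R) (h : ∀ i ∈ s, Reg3 a b (c i)) :
    Reg3 a b (∏ i ∈ s, c i) := by
  classical
  induction s using Finset.induction_on with
  | empty => rw [Finset.prod_empty]; exact Reg3.one a b
  | insert i s hi ih =>
    rw [Finset.prod_insert hi]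
    exact (h i (Finset.mem_insert_self i s)).mul (ih fun j hj => h j (Finset.mem_insert_of_mem hj))

/-- `c` is a nonzerodivisor modulo `(a, b^N)`. -/
theorem Reg3.mod_pow {a b c : R} (h2 : Reg2 a b) (h3 : Reg3 a b c) (N : ℕ) {x u w : R}
    (h : c * x = a * u + b ^ N * w) : ∃ u' w', x = a * u' + b ^ N * w' := by
  induction N generalizing x u w with
  | zero => exact ⟨0, x, by ring⟩
  | succ N ih =>
    obtain ⟨u1, x1, h1⟩ := h3 x u (b ^ N * w) (by rw [h]; ring)
    obtain ⟨u2, h4⟩ := h2 (c * x1 - b ^ N * w) ⟨u - c * u1, by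
      subst h1
      linear_combination h⟩
    obtain ⟨u3, w3, h5⟩ := ih (x := x1) (u := u2) (w := w) (by linear_combination h4)
    exact ⟨u1 + b * u3, w3, by rw [h1, h5]; ring⟩

variable [IsLocalRing R]

open IsLocalRing

theorem le_of_mem {a b c c' : R} (ha : a ∈ maximalIdeal R) (hb : b ∈ maximalIdeal R) (h2 : Reg2 a b)
    (h3 : Reg3 a b c) {B N : ℕ} (h : c * b ^ B ∈ Ideal.span {a} ⊔ Ideal.span {b ^ N * c'}) : N ≤ B := by
  by_contra hlt
  push Not at hlt
  obtain ⟨y, hy, z, hz, hyz⟩ := Submodule.mem_sup.1 h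
  obtain ⟨u, rfl⟩ := Ideal.mem_span_singleton'.1 hy
  obtain ⟨w, rfl⟩ := Ideal.mem_span_singleton'.1 hz
  obtain ⟨u', w', h4⟩ := h3.mod_pow h2 N (x := b ^ B) (u := u) (w := w * c') (by rw [← hyz]; ring)
  obtain ⟨n, hn⟩ : ∃ n, N = B + (n + 1) := ⟨N - B - 1, by omega⟩
  have h5 : IsUnit (1 - b ^ (n + 1) * w') := by
    by_contra h6
    have h7 : 1 - b ^ (n + 1) * w' ∈ maximalIdeal R := (mem_maximalIdeal _).2 h6
    have h8 : b ^ (n + 1) * w' ∈ maximalIdeal R :=
      Ideal.mul_mem_right _ _ (Ideal.pow_mem_of_mem _ hb _ (Nat.succ_pos n))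
    have h9 : (1 : R) ∈ maximalIdeal R := by
      have := (maximalIdeal R).add_mem h7 h8
      simpa using this
    exact (Ideal.ne_top_iff_one _).1 (maximalIdeal.isMaximal R).ne_top h9
  have h6 : a ∣ b ^ B * (1 - b ^ (n + 1) * w') := ⟨u', by
    rw [hn] at h4
    linear_combination h4⟩
  have h7 : a ∣ b ^ B * 1 := by
    rw [mul_one]
    exact (h5.dvd_mul_right).1 h6
  have h8 : a ∣ 1 := h2.pow B h7
  exact (mem_maximalIdeal a).1 ha (isUnit_of_dvd_one h8)

end K369.CutRing
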