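import Groth.Agent.AdjLin.K165.Split
import Groth.Agent.AdjLin.K369.CutRing
import Groth.Agent.Divis.CartierStalk

/-!
# Local rings of a normal crossing family

`exists_gens`: generators `g i` of the stalks of a normal crossing family at a point, with `Reg2`, `Reg3` for distinct members
through the point.
-/

set_option autoImplicit false
universe u

open CategoryTheory AlgebraicGeometry TopologicalSpace

namespace K369.CutCoord

open K369.CutRing RingTheory.Sequence K922.Chart K922.Coord Groth.Agent.Sga67.Sec LogNCD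
open Groth.Agent.Divis.CartierBasic Groth.Agent.Divis.CartierStalk

theorem reg2_of_isWeaklyRegular {S : Type u} [CommRing S] {a b : S} (h : IsWeaklyRegular S [a, b]) : Reg2 a b := by
  have h1 := h.regular_mod_prev 1 (by simp)
  rw [isSMulRegular_quotient_iff_mem_of_smul_mem] at h1
  intro x hx
  have h2 := h1 x
  simp only [List.take_succ_cons, List.take_zero, List.getElem_cons_succ, List.getElem_cons_zero, smul_eq_mul,
    Ideal.mul_top, Ideal.ofList_singleton, Ideal.mem_span_singleton] at h2
  exact h2 hx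

theorem reg3_of_isWeaklyRegular {S : Type u} [CommRing S] {a b c : S} (h : IsWeaklyRegular S [a, b, c]) :
    Reg3 a b c := by
  have h1 := h.regular_mod_prev 2 (by simp)
  rw [isSMulRegular_quotient_iff_mem_of_smul_mem] at h1
  intro x u w hx
  have h2 := h1 x
  simp only [List.take_succ_cons, List.take_zero, List.getElem_cons_succ, List.getElem_cons_zero, smul_eq_mul,
    Ideal.mul_top, Ideal.ofList_cons, Ideal.ofList_nil, sup_bot_eq] at h2
  have h3 : c * x ∈ Ideal.span {a} ⊔ Ideal.span {b} := by
    rw [hx]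
    exact Submodule.add_mem_sup (Ideal.mem_span_singleton'.2 ⟨u, mul_comm _ _⟩)
      (Ideal.mem_span_singleton'.2 ⟨w, mul_comm _ _⟩)
  obtain ⟨y, hy, z, hz, hyz⟩ := Submodule.mem_sup.1 (h2 h3)
  obtain ⟨u', rfl⟩ := Ideal.mem_span_singleton'.1 hy
  obtain ⟨w', rfl⟩ := Ideal.mem_span_singleton'.1 hz
  exact ⟨u', w', by rw [← hyz]; ring⟩

variable {A B S : Type u} [CommRing A] [CommRing B] [CommRing S] [Algebra B S] [Module.Flat B S] {n : ℕ}

theorem reg2_coord (φ : A →+* B) (v : Fin n → B) (h : (MvPolynomial.eval₂Hom φ v).Etale) {a b : Fin n} (hab : a ≠ b) :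
    Reg2 (algebraMap B S (v a)) (algebraMap B S (v b)) := by
  have h1 := (K165.Split.isWeaklyRegular_coord φ v h [a, b] (by simp [hab])).of_flat (S := S)
  exact reg2_of_isWeaklyRegular h1

theorem reg3_coord (φ : A →+* B) (v : Fin n → B) (h : (MvPolynomial.eval₂Hom φ v).Etale) {a b c : Fin n}
    (hab : a ≠ b) (hac : a ≠ c) (hbc : b ≠ c) :
    Reg3 (algebraMap B S (v a)) (algebraMap B S (v b)) (algebraMap B S (v c)) := by
  have h1 := (K165.Split.isWeaklyRegular_coord φ v h [a, b, c] (by simp [hab, hac, hbc])).of_flat (S := S)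
  exact reg3_of_isWeaklyRegular h1

/-- Generators of the stalks of a normal crossing family. -/
theorem exists_gens {X T : Scheme.{u}} {f : X ⟶ T} [Smooth f] {r : ℕ} {E : Fin r → X.IdealSheafData}
    (hE : IsNCD E f) (y : X) : ∃ g : Fin r → X.presheaf.stalk y,
      (∀ l, stalkIdeal (E l) y = Ideal.span {g l}) ∧
      (∀ l, y ∉ (E l).support → IsUnit (g l)) ∧
      (∀ l, y ∈ (E l).support → g l ∈ IsLocalRing.maximalIdeal (X.presheaf.stalk y)) ∧
      (∀ i j, i ≠ j → y ∈ (E i).support → y ∈ (E j).support → Reg2 (g i) (g j)) ∧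
      (∀ i j l, i ≠ j → i ≠ l → j ≠ l → y ∈ (E i).support → y ∈ (E j).support → Reg3 (g i) (g j) (g l)) := by
  obtain ⟨U, n, c, hyU, -⟩ := exists_chart (f := f) hE (O := ⊤) (x := y) trivial
  obtain ⟨W, hWU, V, e, -, hyW, het⟩ := c.coord y U.1 le_rfl hyU
  let iR : Algebra Γ(X, W.1) (X.presheaf.stalk y) := X.presheaf.algebra_section_stalk ⟨y, hyW⟩
  have iloc : IsLocalization.AtPrime (X.presheaf.stalk y) (W.2.primeIdealOf ⟨y, hyW⟩).asIdeal :=
    W.2.isLocalization_stalk ⟨y, hyW⟩
  have ifl : Module.Flat Γ(X, W.1) (X.presheaf.stalk y) :=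
    IsLocalization.flat _ (W.2.primeIdealOf ⟨y, hyW⟩).asIdeal.primeCompl
  let v : Fin n → Γ(X, W.1) := fun k => resO X hWU (c.v k)
  have hst : ∀ l, stalkIdeal (E l) y =
      Ideal.span {(algebraMap Γ(X, W.1) (X.presheaf.stalk y)) (resO X hWU (c.g l))} := by
    intro l
    rw [stalkIdeal_eq (E l) W hyW, c.ideal l W hWU, Ideal.map_span, Set.image_singleton]
    rfl
  have hsup : ∀ l, y ∈ (E l).support → ∃ a, c.e l = some a := by
    intro l hl
    rcases h : c.e l with _ | a
    · exfalso
      refine notMem_support_of_ideal_eq_top (E l) W ?_ y hyW hl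
      rw [c.ideal l W hWU, c.g_none l h, map_one, Ideal.span_singleton_one]
    · exact ⟨a, rfl⟩
  have hun : ∀ l, y ∉ (E l).support →
      IsUnit ((algebraMap Γ(X, W.1) (X.presheaf.stalk y)) (resO X hWU (c.g l))) := by
    intro l hl
    rw [notMem_support_iff_stalkIdeal_eq_top, hst, Ideal.span_singleton_eq_top] at hl
    exact hl
  refine ⟨fun l => algebraMap Γ(X, W.1) (X.presheaf.stalk y) (resO X hWU (c.g l)), hst, hun, ?_, ?_, ?_⟩
  · intro l hl
    rw [IsLocalRing.mem_maximalIdeal]
    intro h
    refine (notMem_support_iff_stalkIdeal_eq_top (E l) y).2 ?_ hl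
    rw [hst, Ideal.span_singleton_eq_top]
    exact h
  · intro i j hij hi hj
    obtain ⟨a, ha⟩ := hsup i hi
    obtain ⟨b, hb⟩ := hsup j hj
    have hab : a ≠ b := by
      rintro rfl
      exact hij (c.inj i j a ha hb)
    have h := reg2_coord (S := X.presheaf.stalk y) _ v het hab
    simp only [v] at h
    rw [← c.g_some i a ha, ← c.g_some j b hb] at h
    exact h
  · intro i j l hij hil hjl hi hj
    by_cases hl : y ∈ (E l).support
    · obtain ⟨a, ha⟩ := hsup i hi
      obtain ⟨b, hb⟩ := hsup j hj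
      obtain ⟨d, hd⟩ := hsup l hl
      have hab : a ≠ b := by
        rintro rfl
        exact hij (c.inj i j a ha hb)
      have had : a ≠ d := by
        rintro rfl
        exact hil (c.inj i l a ha hd)
      have hbd : b ≠ d := by
        rintro rfl
        exact hjl (c.inj j l b hb hd)
      have h := reg3_coord (S := X.presheaf.stalk y) _ v het hab had hbd
      simp only [v] at h
      rw [← c.g_some i a ha, ← c.g_some j b hb, ← c.g_some l d hd] at h
      exact h
    · exact Reg3.of_isUnit _ _ (hun l hl)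

end K369.CutCoord
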